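import Mathlib
import Groth.Agent.GenFreeRed.Main

/-!
# Uniform degree bounds for syzygies

A matrix of polynomials over a Noetherian ring has, after every map to a field, syzygies generated in
bounded degree.
-/

universe u
set_option autoImplicit false

open TensorProduct

namespace Groth.Agent.RadBound

/-- Uniform bounds over a Noetherian ring follow from bounds on a nonempty open of each integral
closed subset of its spectrum. -/
theorem exists_bound_of_prime {A : Type u} [CommRing A] [IsNoetherianRing A]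
    (Q : ℕ → ∀ (k : Type u) [Field k], (A →+* k) → Prop)
    (hmono : ∀ (B B' : ℕ), B ≤ B' → ∀ (k : Type u) [Field k] (ψ : A →+* k), Q B k ψ → Q B' k ψ)
    (h : ∀ (I : Ideal A), I.IsPrime → ∃ c ∉ I, ∃ B, ∀ (k : Type u) [Field k] (ψ : A →+* k),
      I ≤ RingHom.ker ψ → ψ c ≠ 0 → Q B k ψ) :
    ∃ B, ∀ (k : Type u) [Field k] (ψ : A →+* k), Q B k ψ := by
  suffices key : ∀ I : Ideal A, ∃ B, ∀ (k : Type u) [Field k] (ψ : A →+* k), I ≤ RingHom.ker ψ → Q B k ψ by
    obtain ⟨B, hB⟩ := key ⊥
    exact ⟨B, fun k _ ψ => hB k ψ bot_le⟩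
  intro I
  induction I using IsNoetherian.induction with
  | hgt I ih =>
    by_cases hI : I = ⊤
    · refine ⟨0, fun k _ ψ hle => absurd (RingHom.mem_ker.1 (hle (hI ▸ Submodule.mem_top : (1 : A) ∈ I))) ?_⟩
      rw [map_one]; exact one_ne_zero
    by_cases hp : Ideal.IsPrime (α := A) I
    · obtain ⟨c, hc, B, hB⟩ := h I hp
      obtain ⟨B', hB'⟩ := ih (I ⊔ Ideal.span {c}) (left_lt_sup.2 fun hle =>
        hc (hle (Ideal.mem_span_singleton_self c)))
      refine ⟨max B B', fun k _ ψ hle => ?_⟩
      by_cases hψc : ψ c = 0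
      · refine hmono B' _ (le_max_right B B') k ψ (hB' k ψ (sup_le hle ?_))
        rw [Ideal.span_le, Set.singleton_subset_iff]
        exact hψc
      · exact hmono B _ (le_max_left B B') k ψ (hB k ψ hle hψc)
    · obtain ⟨a, b, hab, ha, hb⟩ : ∃ a b, a * b ∈ I ∧ a ∉ I ∧ b ∉ I := by
        by_contra hno
        push Not at hno
        exact hp ⟨hI, fun {a b} hab => or_iff_not_imp_left.2 (hno a b hab)⟩
      obtain ⟨B₁, hB₁⟩ := ih (I ⊔ Ideal.span {a}) (left_lt_sup.2 fun hle =>
        ha (hle (Ideal.mem_span_singleton_self a)))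
      obtain ⟨B₂, hB₂⟩ := ih (I ⊔ Ideal.span {b}) (left_lt_sup.2 fun hle =>
        hb (hle (Ideal.mem_span_singleton_self b)))
      refine ⟨max B₁ B₂, fun k _ ψ hle => ?_⟩
      have h0 : ψ a * ψ b = 0 := by rw [← map_mul]; exact hle hab
      rcases mul_eq_zero.1 h0 with h0 | h0
      · refine hmono B₁ _ (le_max_left B₁ B₂) k ψ (hB₁ k ψ (sup_le hle ?_))
        rw [Ideal.span_le, Set.singleton_subset_iff]
        exact h0
      · refine hmono B₂ _ (le_max_right B₁ B₂) k ψ (hB₂ k ψ (sup_le hle ?_))
        rw [Ideal.span_le, Set.singleton_subset_iff]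
        exact h0

variable {A : Type u} [CommRing A] {N s D : ℕ}

/-- The kernel after base change to a field is generated in degree at most `B`. -/
def SyzBound (Φ : Fin s → Fin D → MvPolynomial (Fin N) A) (B : ℕ) (k : Type u) [Field k] (ψ : A →+* k) : Prop :=
  ∀ w : Fin s → MvPolynomial (Fin N) k, (∀ i, ∑ j, w j * MvPolynomial.map ψ (Φ j i) = 0) →
    w ∈ Submodule.span (MvPolynomial (Fin N) k)
      {v : Fin s → MvPolynomial (Fin N) k | (∀ j, (v j).totalDegree ≤ B) ∧
        ∀ i, ∑ j, v j * MvPolynomial.map ψ (Φ j i) = 0}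

/-- Kernels commute with base change to a field on which the cokernel is flat. -/
theorem mem_range_lTensor_of_flat {A : Type u} [CommRing A] (R' k : Type u) [CommRing R'] [CommRing k]
    [Algebra A R'] [Algebra A k] [Algebra R' k] [IsScalarTower A R' k] [Module.Flat A R']
    {K X Y Q : Type u} [AddCommGroup K] [Module A K] [AddCommGroup X] [Module A X] [AddCommGroup Y] [Module A Y]
    [AddCommGroup Q] [Module A Q] (κ : K →ₗ[A] X) (f : X →ₗ[A] Y) (π : Y →ₗ[A] Q) (hκf : Function.Exact κ f)
    (hfπ : Function.Exact f π) (hπ : Function.Surjective π) [Module.Flat R' (R' ⊗[A] Q)]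
    (z : k ⊗[A] X) (hz : f.lTensor k z = 0) : ∃ y, κ.lTensor k y = z := by
  let ι : LinearMap.range f →ₗ[A] Y := (LinearMap.range f).subtype
  have hιπ : Function.Exact ι π := fun x => (hfπ x).trans ⟨fun ⟨y, hy⟩ => ⟨⟨x, y, hy⟩, rfl⟩, fun ⟨⟨_, y, hy⟩, h⟩ => ⟨y, hy.trans h⟩⟩
  let F := ι.baseChange R'
  have hF : Function.Injective F :=
    Module.Flat.lTensor_preserves_injective_linearMap (M := R') ι Subtype.val_injective
  have h1 : Function.Injective (F.lTensor k) :=
    LinearMap.lTensor_injective_of_exact_of_flat (π.baseChange R')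
      (fun x => by
        obtain ⟨y, hy⟩ := LinearMap.lTensor_surjective R' hπ x
        exact ⟨y, by rw [← hy]; rfl⟩)
      F hF (fun x => (lTensor_exact R' hιπ hπ) x) k
  have hnat : ∀ z, ι.lTensor k z = AlgebraTensorModule.cancelBaseChange A R' k k _
      (F.lTensor k ((AlgebraTensorModule.cancelBaseChange A R' k k _).symm z)) := by
    intro z
    induction z with
    | zero => simp
    | tmul l m => simp [F]
    | add a b ha hb => simp only [map_add, ha, hb]
  have hinj : Function.Injective (ι.lTensor k) := by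
    intro x y hxy
    rw [hnat x, hnat y] at hxy
    exact (AlgebraTensorModule.cancelBaseChange A R' k k _).symm.injective
      (h1 ((AlgebraTensorModule.cancelBaseChange A R' k k _).injective hxy))
  have hg : Function.Exact κ f.rangeRestrict := fun x =>
    (show f.rangeRestrict x = 0 ↔ f x = 0 from Subtype.ext_iff).trans (hκf x)
  refine (lTensor_exact k hg f.surjective_rangeRestrict z).1 (hinj ?_)
  rw [map_zero, ← LinearMap.comp_apply, ← LinearMap.lTensor_comp]
  exact hz

/-- Over a Noetherian domain the syzygies are uniformly bounded near the generic point. -/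
theorem exists_syzBound_near [IsDomain A] [IsNoetherianRing A] (Φ : Fin s → Fin D → MvPolynomial (Fin N) A) :
    ∃ c : A, c ≠ 0 ∧ ∃ B, ∀ (k : Type u) [Field k] (ψ : A →+* k), ψ c ≠ 0 → SyzBound Φ B k ψ := by
  classical
  let P := MvPolynomial (Fin N) A
  let f : (Fin s → P) →ₗ[P] (Fin D → P) := Fintype.linearCombination P Φ
  obtain ⟨G, hG⟩ := IsNoetherian.noetherian (LinearMap.ker f)
  obtain ⟨c, hc, hfree, -, -, -⟩ := Groth.Agent.GenFreeRed.exists_isGood A P ((Fin D → P) ⧸ LinearMap.range f) 1 one_ne_zero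
  rw [one_mul] at hc hfree
  refine ⟨c, hc, G.sup fun v => Finset.univ.sup fun j => (v j).totalDegree, fun k _ ψ hψ w hw => ?_⟩
  let := ψ.toAlgebra
  let R' := Localization.Away c
  let := (IsLocalization.Away.lift (S := R') c (g := ψ) (IsUnit.mk0 _ hψ)).toAlgebra
  have : IsScalarTower A R' k := IsScalarTower.of_algebraMap_eq fun x => (IsLocalization.Away.lift_eq c _ x).symm
  let C := (Fin D → P) ⧸ LinearMap.range f
  have := hfree
  have : Module.Free R' (R' ⊗[A] C) := Module.Free.of_equiv
    ((IsLocalizedModule.isBaseChange (Submonoid.powers c) R'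
      (LocalizedModule.mkLinearMap (Submonoid.powers c) C)).equiv).symm
  let t : ∀ d : ℕ, k ⊗[A] (Fin d → P) ≃ₗ[k] (Fin d → MvPolynomial (Fin N) k) := fun d =>
    (TensorProduct.piRight A k k (fun _ : Fin d => P)).trans
      (LinearEquiv.piCongrRight fun _ => (MvPolynomial.algebraTensorAlgEquiv A k).toLinearEquiv)
  have ht : ∀ (d : ℕ) (a : k) (v : Fin d → P) (j : Fin d), t d (a ⊗ₜ v) j = a • MvPolynomial.map ψ (v j) := by
    intro d a v j
    simp [t, P, RingHom.algebraMap_toAlgebra]
  let fk := (f.restrictScalars A).lTensor k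
  have hfk : ∀ z i, t D (fk z) i = ∑ j, t s z j * MvPolynomial.map ψ (Φ j i) := by
    intro z i
    induction z with
    | zero => simp
    | tmul a v =>
      simp only [fk, LinearMap.lTensor_tmul, LinearMap.restrictScalars_apply, ht, f, Fintype.linearCombination_apply,
        Finset.sum_apply, Pi.smul_apply, smul_eq_mul, map_sum, Finset.smul_sum, map_mul, smul_mul_assoc]
    | add a b ha hb => simp only [map_add, Pi.add_apply, ha, hb, add_mul, Finset.sum_add_distrib]
  obtain ⟨z, rfl⟩ := (t s).surjective w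
  let κ : LinearMap.ker f →ₗ[A] (Fin s → P) := (LinearMap.ker f).subtype.restrictScalars A
  have h0 : fk z = 0 := by
    refine (t D).injective (funext fun i => ?_)
    rw [hfk, hw i, map_zero]
    rfl
  have hκf : Function.Exact κ (f.restrictScalars A) := fun x =>
    ⟨fun h => ⟨⟨x, LinearMap.mem_ker.2 h⟩, rfl⟩, fun ⟨y, hy⟩ => hy ▸ LinearMap.mem_ker.1 y.2⟩
  let π : (Fin D → P) →ₗ[A] C := (LinearMap.range f).mkQ.restrictScalars A
  have hfπ : Function.Exact (f.restrictScalars A) π := fun x =>
    ⟨fun h => (Submodule.Quotient.mk_eq_zero (LinearMap.range f)).1 h,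
      fun h => (Submodule.Quotient.mk_eq_zero (LinearMap.range f)).2 h⟩
  have hπ : Function.Surjective π := fun x => by
    obtain ⟨v, rfl⟩ := Submodule.Quotient.mk_surjective (LinearMap.range f) x
    exact ⟨v, rfl⟩
  obtain ⟨y, rfl⟩ := mem_range_lTensor_of_flat R' k κ (f.restrictScalars A) π hκf hfπ hπ z h0
  clear hw h0
  set S := Submodule.span (MvPolynomial (Fin N) k)
      {v : Fin s → MvPolynomial (Fin N) k | (∀ j, (v j).totalDegree ≤ G.sup fun v => Finset.univ.sup fun j => (v j).totalDegree) ∧
        ∀ i, ∑ j, v j * MvPolynomial.map ψ (Φ j i) = 0}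
  induction y with
  | zero => rw [map_zero, map_zero]; exact zero_mem _
  | add a b ha hb => rw [map_add, map_add]; exact add_mem ha hb
  | tmul a v =>
    have htv : t s (κ.lTensor k (a ⊗ₜ v)) =
        (MvPolynomial.C a : MvPolynomial (Fin N) k) • (fun j => MvPolynomial.map ψ ((v : Fin s → P) j)) := funext fun j => by
      rw [LinearMap.lTensor_tmul, ht, Pi.smul_apply, smul_eq_mul, MvPolynomial.C_mul']
      rfl
    rw [htv]
    refine Submodule.smul_mem _ _ ?_
    have hv : (v : Fin s → P) ∈ Submodule.span P (G : Set (Fin s → P)) := hG.ge v.2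
    clear htv
    generalize (v : Fin s → P) = v' at hv
    induction hv using Submodule.span_induction with
    | mem v' hv' =>
      refine Submodule.subset_span ⟨fun j => ?_, fun i => ?_⟩
      · exact (Finset.sup_mono (MvPolynomial.support_map_subset ψ (v' j))).trans
          ((Finset.le_sup (f := fun j => (v' j).totalDegree) (Finset.mem_univ j)).trans
            (Finset.le_sup (f := fun v => Finset.univ.sup fun j => (v j).totalDegree) hv'))
      · have h1 : f v' = 0 := LinearMap.mem_ker.1 (hG.le (Submodule.subset_span hv'))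
        have h2 := congrArg (MvPolynomial.map ψ) (congrFun h1 i)
        simpa [f, Fintype.linearCombination_apply, map_sum, map_mul] using h2
    | zero => convert zero_mem S; ext1 j; simp
    | add x y _ _ hx hy => convert add_mem hx hy using 1; ext1 j; simp
    | smul p x _ hx => convert Submodule.smul_mem S (MvPolynomial.map ψ p) hx using 1; ext1 j; simp

/-- Syzygies of a matrix of polynomials over a Noetherian ring are uniformly bounded over all fields. -/
theorem exists_syzBound [IsNoetherianRing A] (Φ : Fin s → Fin D → MvPolynomial (Fin N) A) :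
    ∃ B, ∀ (k : Type u) [Field k] (ψ : A →+* k), SyzBound Φ B k ψ := by
  refine exists_bound_of_prime (fun B k _ ψ => SyzBound Φ B k ψ) (fun B B' hBB' k _ ψ hB w hw => ?_) fun I hI => ?_
  · exact Submodule.span_mono (R := MvPolynomial (Fin N) k) (s := {v : Fin s → MvPolynomial (Fin N) k |
        (∀ j, (v j).totalDegree ≤ B) ∧ ∀ i, ∑ j, v j * MvPolynomial.map ψ (Φ j i) = 0})
      (by rintro v ⟨h1, h2⟩; exact ⟨fun j => (h1 j).trans hBB', h2⟩) (hB w hw)
  obtain ⟨c, hc, B, hB⟩ := exists_syzBound_near (A := A ⧸ I) fun j i => MvPolynomial.map (Ideal.Quotient.mk I) (Φ j i)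
  obtain ⟨c, rfl⟩ := Ideal.Quotient.mk_surjective c
  refine ⟨c, fun h => hc (Ideal.Quotient.eq_zero_iff_mem.2 h), B, fun k _ ψ hle hψc => ?_⟩
  let ψ' := Ideal.Quotient.lift I ψ fun a ha => hle ha
  have hmap : ∀ j i, MvPolynomial.map ψ' (MvPolynomial.map (Ideal.Quotient.mk I) (Φ j i)) = MvPolynomial.map ψ (Φ j i) := by
    intro j i
    rw [MvPolynomial.map_map]
    congr 1
  intro w hw
  have := hB k ψ' hψc w (by simpa only [hmap] using hw)
  simpa only [hmap] using this

end Groth.Agent.RadBound
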