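import Mathlib
import Groth.Agent.RadBound.Syzygy
import Groth.Agent.FlatMisc.SpreadGeomRed

/-!
# Uniform degree bounds for generators of radicals

For a family of ideals of polynomial rings over the fields receiving a Noetherian ring, the radicals
are generated in bounded degree.
-/

universe u
set_option autoImplicit false

open TensorProduct

namespace Groth.Agent.RadBound

open MvPolynomial

variable {N : ℕ}

/-- Polynomials with coefficients in a finitely spanned algebra expand along the spanning family. -/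
theorem exists_expand {R L : Type u} [CommRing R] [CommRing L] [Algebra R L] {D : ℕ} (β : Fin D → L)
    (q : MvPolynomial (Fin N) L) (h : ∀ d, q.coeff d ∈ Submodule.span R (Set.range β)) :
    ∃ v : Fin D → MvPolynomial (Fin N) R, q = ∑ l, C (β l) * map (algebraMap R L) (v l) := by
  classical
  choose c hc using fun d => Submodule.mem_span_range_iff_exists_fun R |>.1 (h d)
  refine ⟨fun l => ∑ d ∈ q.support, monomial d (c d l), ?_⟩
  conv_lhs => rw [q.as_sum]
  simp only [map_sum, map_monomial, Finset.mul_sum, C_mul_monomial]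
  rw [Finset.sum_comm]
  refine Finset.sum_congr rfl fun d _ => ?_
  rw [← map_sum (monomial d), ← hc d]
  refine congrArg _ (Finset.sum_congr rfl fun l _ => ?_)
  rw [Algebra.smul_def, mul_comm]

/-- Ideals of polynomial rings over a field are unchanged by extension of the field. -/
theorem mem_span_of_map_mem_span {k L : Type u} [Field k] [Field L] [Algebra k L] {M : ℕ}
    (g : Fin M → MvPolynomial (Fin N) k) (f : MvPolynomial (Fin N) k)
    (h : map (algebraMap k L) f ∈ Ideal.span (Set.range fun i => map (algebraMap k L) (g i))) :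
    f ∈ Ideal.span (Set.range g) := by
  classical
  obtain ⟨π, hπ⟩ := (Algebra.linearMap k L).exists_leftInverse_of_injective
    (LinearMap.ker_eq_bot.2 (algebraMap k L).injective)
  obtain ⟨q, hq⟩ := Ideal.mem_span_range_iff_exists_fun.1 h
  let p : Fin M → MvPolynomial (Fin N) k := fun i => ∑ d ∈ (q i).support, monomial d (π ((q i).coeff d))
  have hp : ∀ i d, (p i).coeff d = π ((q i).coeff d) := by
    intro i d
    simp only [p, coeff_sum, coeff_monomial, Finset.sum_ite_eq']
    by_cases hd : d ∈ (q i).support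
    · rw [if_pos hd]
    · rw [if_neg hd, notMem_support_iff.1 hd, map_zero]
  refine Ideal.mem_span_range_iff_exists_fun.2 ⟨p, ?_⟩
  ext d
  have h1 := congrArg (fun r : MvPolynomial (Fin N) L => π (r.coeff d)) hq
  simp only [coeff_sum, map_sum, coeff_mul, coeff_map] at h1
  have h2 : ∀ x : k, π (algebraMap k L x) = x := fun x => LinearMap.congr_fun hπ x
  rw [h2] at h1
  simp only [coeff_sum, coeff_mul, hp]
  refine Eq.trans ?_ h1
  refine Finset.sum_congr rfl fun i _ => Finset.sum_congr rfl fun x _ => ?_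
  rw [mul_comm (coeff x.1 (q i)) (algebraMap k L _), ← Algebra.smul_def, map_smul, smul_eq_mul, mul_comm]

/-- Base change of a quotient of a polynomial ring. -/
theorem nonempty_baseChange_quotient {A L : Type u} [CommRing A] [CommRing L] [Algebra A L]
    (I : Ideal (MvPolynomial (Fin N) A)) :
    Nonempty (L ⊗[A] (MvPolynomial (Fin N) A ⧸ I) ≃ₐ[L]
      MvPolynomial (Fin N) L ⧸ I.map (map (algebraMap A L))) := by
  refine ⟨(Algebra.TensorProduct.tensorQuotientEquiv (R := A) L (MvPolynomial (Fin N) A) L I).trans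
    (Ideal.quotientEquivAlg _ _ (algebraTensorAlgEquiv A L) ?_)⟩
  refine (?_ : Ideal.map (map (algebraMap A L)) I = _).trans (Ideal.map_map _ _).symm
  congr 1
  refine MvPolynomial.ringHom_ext (fun x => ?_) fun i => ?_
  · simp [algebraTensorAlgEquiv_tmul, Algebra.smul_def]
  · simp [algebraTensorAlgEquiv_tmul]

/-- A ring map to an algebraically closed field extends along an integral extension. -/
theorem exists_extension {A A' : Type u} [CommRing A] [CommRing A'] [Algebra A A'] [Algebra.IsIntegral A A']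
    (hinj : Function.Injective (algebraMap A A')) (k : Type u) [Field k] [IsAlgClosed k] (ψ : A →+* k) :
    ∃ ψ' : A' →+* k, ψ'.comp (algebraMap A A') = ψ := by
  let p := RingHom.ker ψ
  haveI : p.IsPrime := RingHom.ker_isPrime ψ
  obtain ⟨Q, -, hQ, hQp⟩ := Ideal.exists_ideal_over_prime_of_isIntegral p (⊥ : Ideal A')
    (by rw [← RingHom.ker_eq_comap_bot, (RingHom.injective_iff_ker_eq_bot _).1 hinj]; exact bot_le)
  haveI : Q.LiesOver p := ⟨hQp.symm⟩
  haveI : IsDomain (A' ⧸ Q) := Ideal.Quotient.isDomain Q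
  letI : Algebra (A ⧸ p) k := (RingHom.kerLift ψ).toAlgebra
  haveI : FaithfulSMul (A ⧸ p) k := (faithfulSMul_iff_algebraMap_injective _ _).2 (RingHom.kerLift_injective ψ)
  haveI : FaithfulSMul (A ⧸ p) (A' ⧸ Q) := by
    rw [faithfulSMul_iff_algebraMap_injective]
    intro x y hxy
    obtain ⟨x, rfl⟩ := Ideal.Quotient.mk_surjective x
    obtain ⟨y, rfl⟩ := Ideal.Quotient.mk_surjective y
    refine Ideal.Quotient.eq.2 ?_
    rw [← hQp, Ideal.mem_comap, map_sub]
    exact Ideal.Quotient.eq.1 hxy
  haveI : Module.IsTorsionFree (A ⧸ p) (A' ⧸ Q) := Module.isTorsionFree_iff_faithfulSMul.2 inferInstance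
  haveI : Module.IsTorsionFree (A ⧸ p) k := Module.isTorsionFree_iff_faithfulSMul.2 inferInstance
  haveI : Algebra.IsIntegral (A ⧸ p) (A' ⧸ Q) := inferInstance
  haveI : Algebra.IsAlgebraic (A ⧸ p) (A' ⧸ Q) := Algebra.IsIntegral.isAlgebraic
  let l : (A' ⧸ Q) →ₐ[A ⧸ p] k := IsAlgClosed.lift
  refine ⟨l.toRingHom.comp (Ideal.Quotient.mk Q), RingHom.ext fun x => ?_⟩
  exact l.commutes (Ideal.Quotient.mk p x)

/-- An ideal which is radical over an algebraically closed field receiving a domain injectively is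
radical over all fields near it. -/
theorem exists_isRadical_near {A : Type u} [CommRing A] [IsDomain A] (Ω : Type u) [Field Ω] [IsAlgClosed Ω]
    [Algebra A Ω] (hAΩ : Function.Injective (algebraMap A Ω)) (I : Ideal (MvPolynomial (Fin N) A))
    (hI : (I.map (map (algebraMap A Ω))).IsRadical) :
    ∃ c : A, c ≠ 0 ∧ ∀ (L : Type u) [Field L] [Algebra A L], algebraMap A L c ≠ 0 →
      (I.map (map (algebraMap A L))).IsRadical := by
  let S := MvPolynomial (Fin N) A ⧸ I
  let K := FractionRing A
  letI : Algebra K Ω := (IsFractionRing.lift (K := K) hAΩ).toAlgebra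
  haveI : IsScalarTower A K Ω := IsScalarTower.of_algebraMap_eq fun x => (IsFractionRing.lift_algebraMap hAΩ x).symm
  haveI hΩred : _root_.IsReduced (Ω ⊗[A] S) := by
    obtain ⟨eq⟩ := nonempty_baseChange_quotient (L := Ω) I
    haveI : _root_.IsReduced (MvPolynomial (Fin N) Ω ⧸ I.map (map (algebraMap A Ω))) :=
      (Ideal.isRadical_iff_quotient_reduced _).1 hI
    exact isReduced_of_injective eq eq.injective
  haveI : Algebra.IsGeometricallyReduced K (K ⊗[A] S) := by
    rw [Algebra.isGeometricallyReduced_field_iff]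
    let ι : AlgebraicClosure K →ₐ[K] Ω := IsAlgClosed.lift
    letI : Algebra (AlgebraicClosure K) Ω := ι.toRingHom.toAlgebra
    haveI : IsScalarTower A (AlgebraicClosure K) Ω := IsScalarTower.of_algebraMap_eq fun x => by
      rw [IsScalarTower.algebraMap_apply A K (AlgebraicClosure K), IsScalarTower.algebraMap_apply A K Ω]
      exact (ι.commutes _).symm
    haveI : _root_.IsReduced (AlgebraicClosure K ⊗[A] S) :=
      isReduced_of_injective _ (Groth.Agent.FlatMisc.SpreadRed.map_injective_of_fields (A := A) (AlgebraicClosure K) Ω S)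
    exact isReduced_of_injective (Algebra.TensorProduct.cancelBaseChange A K (AlgebraicClosure K) (AlgebraicClosure K) S)
      (AlgEquiv.injective _)
  obtain ⟨c, hc, hred⟩ := Groth.Agent.FlatMisc.SpreadRed.exists_reduced_near (R := A) (S := S) K
  refine ⟨c, hc, fun L _ _ hL => ?_⟩
  haveI := hred L hL
  obtain ⟨eq⟩ := nonempty_baseChange_quotient (L := L) I
  rw [Ideal.isRadical_iff_quotient_reduced]
  exact isReduced_of_injective eq.symm eq.symm.injective

/-- The radical of the specialised ideal is generated in degree at most `B`. -/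
def RadB {A : Type u} [CommRing A] {M : ℕ} (g : Fin M → MvPolynomial (Fin N) A) (B : ℕ) (k : Type u) [Field k]
    (ψ : A →+* k) : Prop :=
  ∀ f ∈ (Ideal.span (Set.range fun i => map ψ (g i))).radical,
    f ∈ Ideal.span {q : MvPolynomial (Fin N) k | q.totalDegree ≤ B ∧
      q ∈ (Ideal.span (Set.range fun i => map ψ (g i))).radical}

/-- Over a Noetherian domain the radicals are uniformly bounded near the generic point. -/
theorem exists_radB_near {A : Type u} [CommRing A] [IsDomain A] [IsNoetherianRing A] {M : ℕ}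
    (g : Fin M → MvPolynomial (Fin N) A) :
    ∃ c : A, c ≠ 0 ∧ ∃ B, ∀ (k : Type u) [Field k] (ψ : A →+* k), ψ c ≠ 0 → RadB g B k ψ := by
  classical
  let F := FractionRing A
  let Ω := AlgebraicClosure F
  haveI : Algebra.IsAlgebraic A Ω := (IsFractionRing.comap_isAlgebraic_iff (A := A) (K := F) (C := Ω)).2 inferInstance
  have hAΩ : Function.Injective (algebraMap A Ω) := by
    rw [IsScalarTower.algebraMap_eq A F Ω]
    exact (algebraMap F Ω).injective.comp (IsFractionRing.injective A F)
  -- the generic radical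
  let gΩ : Fin M → MvPolynomial (Fin N) Ω := fun i => map (algebraMap A Ω) (g i)
  let J := (Ideal.span (Set.range gΩ)).radical
  obtain ⟨t, ht⟩ := (IsNoetherian.noetherian J : J.FG)
  obtain ⟨e, he⟩ := (Ideal.span (Set.range gΩ)).exists_radical_pow_le_of_fg (IsNoetherian.noetherian _)
  let r := t.card
  let h : Fin r → MvPolynomial (Fin N) Ω := fun j => t.equivFin.symm j
  have hJ : J = Ideal.span (Set.range h) := by
    rw [← ht]
    refine le_antisymm (Ideal.span_mono fun x hx => ⟨t.equivFin ⟨x, hx⟩, by simp [h]⟩) (Ideal.span_mono ?_)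
    rintro _ ⟨j, rfl⟩
    exact (t.equivFin.symm j).2
  have hcert₁ : ∀ i, ∃ p : Fin r → MvPolynomial (Fin N) Ω, ∑ j, p j * h j = gΩ i := fun i =>
    Ideal.mem_span_range_iff_exists_fun.1 (hJ.le (Ideal.le_radical (Ideal.subset_span ⟨i, rfl⟩)))
  have hcert₂ : ∀ j, ∃ q : Fin M → MvPolynomial (Fin N) Ω, ∑ i, q i * gΩ i = h j ^ e := fun j =>
    Ideal.mem_span_range_iff_exists_fun.1 (he (Ideal.pow_mem_pow (hJ.ge (Ideal.subset_span ⟨j, rfl⟩)) e))
  choose p hp using hcert₁
  choose q hq using hcert₂
  let cs : Finset Ω := (Finset.univ.biUnion fun j => (h j).coeffs) ∪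
    (Finset.univ.biUnion fun i => Finset.univ.biUnion fun j => (p i j).coeffs) ∪
    (Finset.univ.biUnion fun j => Finset.univ.biUnion fun i => (q j i).coeffs)
  obtain ⟨a, ha, hint⟩ := Algebra.IsAlgebraic.exists_integral_multiples A cs
  let gs : Set Ω := (fun x : Ω => a • x) '' (cs : Set Ω)
  let A' : Subalgebra A Ω := Algebra.adjoin A gs
  haveI : Module.Finite A A' := Algebra.finite_adjoin_of_finite_of_isIntegral (cs.finite_toSet.image _)
    (by rintro _ ⟨x, hx, rfl⟩; exact hint x hx)
  haveI : Algebra.IsIntegral A A' := Algebra.IsIntegral.of_finite A A'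
  haveI : IsNoetherianRing A' := IsNoetherianRing.of_finite A A'
  have hAA' : Function.Injective (algebraMap A A') := fun x y hxy => hAΩ (congrArg Subtype.val hxy)
  have hdesc : ∀ P : MvPolynomial (Fin N) Ω, (∀ x ∈ P.coeffs, x ∈ cs) →
      ∃ P' : MvPolynomial (Fin N) A', map (algebraMap A' Ω) P' = C (algebraMap A Ω a) * P := by
    intro P hP
    refine MvPolynomial.mem_range_map_iff_coeffs_subset.2 fun x hx => ?_
    obtain ⟨d, hd, rfl⟩ := MvPolynomial.mem_coeffs_iff.1 hx
    rw [coeff_C_mul, ← Algebra.smul_def]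
    have hd' : P.coeff d ≠ 0 := fun h0 => (MvPolynomial.mem_support_iff.1 hd) (by rw [coeff_C_mul, h0, mul_zero])
    exact ⟨⟨_, Algebra.subset_adjoin ⟨_, hP _ (MvPolynomial.coeff_mem_coeffs d hd'), rfl⟩⟩, rfl⟩
  choose h' hh' using fun j => hdesc (h j) fun x hx => Finset.mem_union_left _ (Finset.mem_union_left _
    (Finset.mem_biUnion.2 ⟨j, Finset.mem_univ _, hx⟩))
  choose p' hp' using fun i j => hdesc (p i j) fun x hx => Finset.mem_union_left _ (Finset.mem_union_right _
    (Finset.mem_biUnion.2 ⟨i, Finset.mem_univ _, Finset.mem_biUnion.2 ⟨j, Finset.mem_univ _, hx⟩⟩))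
  choose q' hq' using fun j i => hdesc (q j i) fun x hx => Finset.mem_union_right _
    (Finset.mem_biUnion.2 ⟨j, Finset.mem_univ _, Finset.mem_biUnion.2 ⟨i, Finset.mem_univ _, hx⟩⟩)
  have hinjP : Function.Injective (map (algebraMap A' Ω) : MvPolynomial (Fin N) A' → MvPolynomial (Fin N) Ω) :=
    MvPolynomial.map_injective _ Subtype.val_injective
  have hAmap : ∀ x : A, (algebraMap A' Ω) (algebraMap A A' x) = algebraMap A Ω x := fun x => rfl
  have hgmap : ∀ i, map (algebraMap A' Ω) (map (algebraMap A A') (g i)) = gΩ i := fun i => by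
    rw [MvPolynomial.map_map]; rfl
  have hrel₁ : ∀ i, C (algebraMap A A' (a * a)) * map (algebraMap A A') (g i) = ∑ j, p' i j * h' j := fun i => hinjP (by
    simp only [map_mul, map_C, hAmap, hgmap, ← hp i, map_sum, hp', hh', Finset.mul_sum]
    exact Finset.sum_congr rfl fun j _ => by ring)
  have hrel₂ : ∀ j, C (algebraMap A A' a) * h' j ^ e =
      C (algebraMap A A' (a ^ e)) * ∑ i, q' j i * map (algebraMap A A') (g i) := fun j => hinjP (by
    simp only [map_mul, map_C, hAmap, map_pow, map_sum, hq', hh', hgmap, mul_pow, Finset.mul_sum]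
    rw [← hq j, Finset.mul_sum, Finset.mul_sum]
    exact Finset.sum_congr rfl fun i _ => by ring)
  -- geometric reducedness
  obtain ⟨c', hc', hred⟩ := exists_isRadical_near Ω (Subtype.val_injective : Function.Injective (algebraMap A' Ω))
    (Ideal.span (Set.range h')) (by
      have hrad : ((Ideal.span (Set.range h')).map (map (algebraMap A' Ω))) = J := by
        rw [Ideal.map_span, hJ]
        refine le_antisymm (Ideal.span_le.2 ?_) (Ideal.span_le.2 ?_)
        · rintro _ ⟨_, ⟨j, rfl⟩, rfl⟩
          rw [hh']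
          exact Ideal.mul_mem_left _ _ (Ideal.subset_span ⟨j, rfl⟩)
        · rintro _ ⟨j, rfl⟩
          have hu : IsUnit (C (algebraMap A Ω a) : MvPolynomial (Fin N) Ω) :=
            (IsUnit.mk0 _ fun h0 => ha (hAΩ (h0.trans (map_zero _).symm))).map C
          refine (Ideal.unit_mul_mem_iff_mem _ hu).1 (Ideal.subset_span ?_)
          exact ⟨h' j, ⟨j, rfl⟩, hh' j⟩
      rw [hrad]
      exact Ideal.radical_isRadical _)
  obtain ⟨d, hd, hd0⟩ : ∃ d ∈ (Ideal.span {c'}).comap (algebraMap A A'), d ≠ (0 : A) :=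
    (Submodule.ne_bot_iff _).1 fun hbot => hc' (Ideal.span_singleton_eq_bot.1 (Ideal.eq_bot_of_comap_eq_bot hbot))
  -- the spanning family and its multiplication table
  obtain ⟨D, b, hb⟩ := Module.Finite.exists_fin (R := A) (M := A')
  choose T hT using fun (j : Fin r) (l : Fin D) => exists_expand (R := A) b (C (b l) * h' j)
    (fun d => by rw [hb]; exact Submodule.mem_top)
  obtain ⟨ε, hε⟩ := (Submodule.mem_span_range_iff_exists_fun A).1
    (show (1 : A') ∈ Submodule.span A (Set.range b) by rw [hb]; exact Submodule.mem_top)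
  -- the syzygy problem over an enlarged base
  let ι₀ := Option ((Fin r × Fin D) ⊕ Fin D)
  let A₁ := MvPolynomial (Fin D × Fin D) A
  let row : ι₀ → Fin D → MvPolynomial (Fin N) A₁ := fun x m =>
    match x with
    | none => C (C (ε m))
    | some (Sum.inl (j, l)) => map C (T j l m)
    | some (Sum.inr s) => C (X (s, m))
  let eι := (Fintype.equivFin ι₀).symm
  obtain ⟨B, hB⟩ := exists_syzBound (A := A₁) fun x m => row (eι x) m
  refine ⟨a * d, mul_ne_zero ha hd0, B, fun k _ ψ hψ f hf => ?_⟩
  rw [map_mul] at hψ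
  have hψa : ψ a ≠ 0 := left_ne_zero_of_mul hψ
  have hψd : ψ d ≠ 0 := right_ne_zero_of_mul hψ
  let kb := AlgebraicClosure k
  obtain ⟨ψ', hψ'⟩ := exists_extension hAA' kb ((algebraMap k kb).comp ψ)
  let L := IntermediateField.adjoin k (Set.range ψ')
  let ψL : A' →+* L := ψ'.codRestrict L.toSubfield fun x => IntermediateField.subset_adjoin k _ ⟨x, rfl⟩
  have hψL : ∀ x : A, ψL (algebraMap A A' x) = algebraMap k L (ψ x) := fun x =>
    Subtype.ext (RingHom.congr_fun hψ' x)
  let β : Fin D → L := fun l => ψL (b l)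
  have hspanL : ∀ x : L, x ∈ Submodule.span k (Set.range β) := by
    intro x
    have hx : (x : kb) ∈ Subalgebra.toSubmodule (Algebra.adjoin k (Set.range ψ')) := by
      have := x.2
      rw [← IntermediateField.mem_toSubalgebra, IntermediateField.adjoin_toSubalgebra_of_isAlgebraic
        (fun y _ => Algebra.IsAlgebraic.isAlgebraic y)] at this
      exact this
    rw [Algebra.adjoin_eq_span, show Submonoid.closure (Set.range ψ') = MonoidHom.mrange ψ'.toMonoidHom from
      Submonoid.closure_eq (MonoidHom.mrange ψ'.toMonoidHom)] at hx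
    have hle : (Submodule.span k (Set.range β)).map (L.val.toLinearMap) ≥
        Submodule.span k (MonoidHom.mrange ψ'.toMonoidHom : Set kb) := by
      rw [Submodule.map_span, ge_iff_le, Submodule.span_le]
      rintro _ ⟨y, rfl⟩
      obtain ⟨v, rfl⟩ := (Submodule.mem_span_range_iff_exists_fun A).1
        (show y ∈ Submodule.span A (Set.range b) by rw [hb]; exact Submodule.mem_top)
      refine Submodule.mem_span.2 fun P hP => ?_
      show ψ' (∑ l, v l • b l) ∈ P
      rw [map_sum]
      refine P.sum_mem fun l _ => ?_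
      have h1 : ψ' (v l • b l) = ψ (v l) • (β l : kb) := by
        rw [Algebra.smul_def, map_mul, ← RingHom.comp_apply, hψ', Algebra.smul_def]
        rfl
      rw [h1]
      exact P.smul_mem _ (hP ⟨β l, ⟨l, rfl⟩, rfl⟩)
    obtain ⟨y, hy, hyx⟩ := hle hx
    rwa [show x = y from Subtype.ext hyx.symm]
  let φ : MvPolynomial (Fin N) k →+* MvPolynomial (Fin N) L := map (algebraMap k L)
  let φ' : MvPolynomial (Fin N) A' →+* MvPolynomial (Fin N) L := map ψL
  have hφ : ∀ P : MvPolynomial (Fin N) A, φ' (map (algebraMap A A') P) = φ (map ψ P) := fun P => by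
    simp only [φ, φ', MvPolynomial.map_map]
    rw [show ψL.comp (algebraMap A A') = (algebraMap k L).comp ψ from RingHom.ext hψL]
  let H : Fin r → MvPolynomial (Fin N) L := fun j => φ' (h' j)
  let JL := Ideal.span (Set.range H)
  have hJLrad : JL.IsRadical := by
    letI : Algebra A' L := ψL.toAlgebra
    have hne : algebraMap A' L c' ≠ 0 := by
      intro h0
      obtain ⟨y, hy⟩ := Ideal.mem_span_singleton.1 hd
      refine hψd ((algebraMap k L).injective ?_)
      rw [map_zero, ← hψL, hy, map_mul]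
      exact mul_eq_zero_of_left h0 _
    have heq : JL = (Ideal.span (Set.range h')).map (map (algebraMap A' L)) := by
      rw [Ideal.map_span, ← Set.range_comp]
      rfl
    rw [heq]
    exact hred L hne
  set I := Ideal.span (Set.range fun i => map ψ (g i)) with hI
  have hua : IsUnit (C (algebraMap k L (ψ a)) : MvPolynomial (Fin N) L) :=
    ((IsUnit.mk0 _ hψa).map (algebraMap k L)).map C
  have hmem₁ : ∀ i, φ (map ψ (g i)) ∈ JL := by
    intro i
    have h1 := congrArg φ' (hrel₁ i)
    rw [map_mul, hφ, map_sum] at h1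
    have h2 : φ' (C (algebraMap A A' (a * a))) = C (algebraMap k L (ψ a)) * C (algebraMap k L (ψ a)) := by
      simp only [φ', map_C, hψL, map_mul]
    rw [h2] at h1
    refine (Ideal.unit_mul_mem_iff_mem _ (hua.mul hua)).1 (h1 ▸ Ideal.sum_mem _ fun j _ => ?_)
    rw [map_mul]
    exact Ideal.mul_mem_left _ _ (Ideal.subset_span ⟨j, rfl⟩)
  have hmem₂ : ∀ j, H j ∈ (I.map φ).radical := by
    intro j
    have h1 := congrArg φ' (hrel₂ j)
    rw [map_mul, map_mul, map_pow, map_sum] at h1
    have h2 : φ' (C (algebraMap A A' a)) = C (algebraMap k L (ψ a)) := by simp only [φ', map_C, hψL]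
    rw [h2] at h1
    refine ⟨e, (Ideal.unit_mul_mem_iff_mem _ hua).1 (h1 ▸ Ideal.mul_mem_left _ _ (Ideal.sum_mem _ fun i _ => ?_))⟩
    rw [map_mul, hφ]
    exact Ideal.mul_mem_left _ _ (Ideal.mem_map_of_mem _ (Ideal.subset_span ⟨i, rfl⟩))
  have hIφ : I.map φ = Ideal.span (Set.range fun i => φ (map ψ (g i))) := by
    rw [hI, Ideal.map_span, ← Set.range_comp]
    rfl
  have hiff : ∀ y : MvPolynomial (Fin N) k, y ∈ I.radical ↔ φ y ∈ JL := by
    intro y
    constructor
    · rintro ⟨n, hn⟩
      refine hJLrad ⟨n, ?_⟩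
      rw [← map_pow]
      exact (Ideal.map_le_iff_le_comap.1 (hIφ.le.trans (Ideal.span_le.2 (by rintro _ ⟨i, rfl⟩; exact hmem₁ i)))) hn
    · intro hy
      obtain ⟨n, hn⟩ := (Ideal.span_le.2 (by rintro _ ⟨j, rfl⟩; exact hmem₂ j) : JL ≤ (I.map φ).radical) hy
      rw [← map_pow, hIφ] at hn
      exact ⟨n, mem_span_of_map_mem_span (fun i => map ψ (g i)) _ hn⟩
  -- a spanning family of the relations among `β`
  let lc : (Fin D → k) →ₗ[k] L := Fintype.linearCombination k β
  let Nv : Fin D → Fin D → k := fun s =>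
    if hs : (s : ℕ) < Module.finrank k (LinearMap.ker lc) then
      ((Module.finBasis k (LinearMap.ker lc)) ⟨s, hs⟩ : Fin D → k) else 0
  have hNv : ∀ s, ∑ m, algebraMap k L (Nv s m) * β m = 0 := by
    intro s
    have h1 : lc (Nv s) = 0 := by
      simp only [Nv]
      split_ifs
      · exact LinearMap.mem_ker.1 (Subtype.coe_prop _)
      · exact map_zero _
    simpa [lc, Fintype.linearCombination_apply, Algebra.smul_def] using h1
  let ψ₁ : A₁ →+* k := eval₂Hom ψ fun x => Nv x.1 x.2
  -- the equation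
  obtain ⟨Q, hQ⟩ := Ideal.mem_span_range_iff_exists_fun.1 ((hiff f).1 hf)
  choose qv hqv using fun j => exists_expand (R := k) β (Q j) (fun d => hspanL _)
  let z₀ : Fin D → MvPolynomial (Fin N) k := fun m =>
    (∑ x : Fin r × Fin D, qv x.1 x.2 * map ψ (T x.1 x.2 m)) - f * C (ψ (ε m))
  have hone : ∑ m, C (β m) * φ (C (ψ (ε m))) = 1 := by
    have h1 := congrArg ψL hε
    rw [map_sum, map_one] at h1
    rw [← map_one (C (R := L) (σ := Fin N)), ← h1, map_sum]
    refine Finset.sum_congr rfl fun m _ => ?_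
    rw [Algebra.smul_def, map_mul, hψL, map_mul, mul_comm]
    simp only [φ, map_C, β]
  have hTL : ∀ j l, ∑ m, C (β m) * φ (map ψ (T j l m)) = C (β l) * H j := by
    intro j l
    have h1 := congrArg φ' (hT j l)
    rw [map_mul, map_sum] at h1
    simp only [map_mul, hφ] at h1
    simpa only [φ', β, H, map_C] using h1.symm
  have hz₀ : ∑ m, C (β m) * φ (z₀ m) = 0 := by
    simp only [z₀, map_sub, map_sum, map_mul, mul_sub, Finset.mul_sum, Finset.sum_sub_distrib]
    rw [sub_eq_zero, Finset.sum_comm]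
    have h3 : ∑ m, C (β m) * (φ f * φ (C (ψ (ε m)))) = φ f := by
      conv_rhs => rw [← mul_one (φ f), ← hone, Finset.mul_sum]
      exact Finset.sum_congr rfl fun m _ => by ring
    rw [h3]
    show _ = φ f
    rw [← hQ, Fintype.sum_prod_type]
    refine Finset.sum_congr rfl fun j _ => ?_
    rw [hqv j, Finset.sum_mul]
    refine Finset.sum_congr rfl fun l _ => ?_
    rw [mul_right_comm, ← hTL j l, Finset.sum_mul]
    exact Finset.sum_congr rfl fun m _ => by ring
  have hker : ∀ d, (fun m => (z₀ m).coeff d) ∈ Submodule.span k (Set.range Nv) := by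
    intro d
    have h1 : (fun m => (z₀ m).coeff d) ∈ LinearMap.ker lc := by
      rw [LinearMap.mem_ker, Fintype.linearCombination_apply]
      have h2 := congrArg (fun P : MvPolynomial (Fin N) L => P.coeff d) hz₀
      simp only [coeff_sum, coeff_C_mul, φ, coeff_map, coeff_zero] at h2
      refine Eq.trans (Finset.sum_congr rfl fun m _ => ?_) h2
      rw [Algebra.smul_def, mul_comm]
    have h2 := (Module.finBasis k (LinearMap.ker lc)).mem_span ⟨_, h1⟩
    have h3 := Submodule.mem_map_of_mem (f := (LinearMap.ker lc).subtype) h2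
    rw [Submodule.map_span] at h3
    refine Submodule.span_mono ?_ h3
    rintro _ ⟨_, ⟨s, rfl⟩, rfl⟩
    have hle : Module.finrank k (LinearMap.ker lc) ≤ D :=
      (Submodule.finrank_le _).trans (le_of_eq (Module.finrank_fin_fun k))
    exact ⟨⟨s, s.2.trans_le hle⟩, by simp [Nv, s.2]⟩
  have hz : ∃ z : Fin D → MvPolynomial (Fin N) k, ∀ m, z₀ m = ∑ s, z s * C (Nv s m) := by
    choose cf hcf using fun d => (Submodule.mem_span_range_iff_exists_fun k).1 (hker d)
    let sup := Finset.univ.biUnion fun m => (z₀ m).support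
    refine ⟨fun s => ∑ d ∈ sup, monomial d (cf d s), fun m => ?_⟩
    ext d
    have hmC : ∀ (d' : Fin N →₀ ℕ) (x y : k), monomial d' x * C y = monomial d' (x * y) := fun d' x y => by
      rw [mul_comm, C_mul_monomial, mul_comm]
    simp only [coeff_sum, Finset.sum_mul, hmC, coeff_monomial, Finset.sum_ite_eq']
    by_cases hdm : d ∈ sup
    · simp only [if_pos hdm]
      have := congrFun (hcf d) m
      simpa [Finset.sum_apply] using this.symm
    · simp only [if_neg hdm, Finset.sum_const_zero]
      by_contra hne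
      exact hdm (Finset.mem_biUnion.2 ⟨m, Finset.mem_univ _, MvPolynomial.mem_support_iff.2 hne⟩)
  obtain ⟨z, hz⟩ := hz
  let u₀ : ι₀ → MvPolynomial (Fin N) k := fun x =>
    match x with
    | none => -f
    | some (Sum.inl x) => qv x.1 x.2
    | some (Sum.inr s) => -z s
  have hrow : ∀ (v : ι₀ → MvPolynomial (Fin N) k) m, ∑ x, v x * map ψ₁ (row x m) =
      v none * C (ψ (ε m)) + ((∑ x : Fin r × Fin D, v (some (Sum.inl x)) * map ψ (T x.1 x.2 m)) +
        ∑ s, v (some (Sum.inr s)) * C (Nv s m)) := by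
    intro v m
    rw [Fintype.sum_option, Fintype.sum_sum_type]
    have e1 : ∀ x : A, ψ₁ (C x : A₁) = ψ x := fun x => eval₂_C _ _ _
    have e2 : ∀ s i : Fin D, ψ₁ (X (s, i) : A₁) = Nv s i := fun s i => eval₂_X _ _ _
    have hC : ψ₁.comp (C : A →+* A₁) = ψ := RingHom.ext e1
    simp only [row, map_C, MvPolynomial.map_map, hC, e1, e2]
  have hu : ∀ m, ∑ x, u₀ (eι x) * map ψ₁ (row (eι x) m) = 0 := by
    intro m
    rw [Equiv.sum_comp eι fun x => u₀ x * map ψ₁ (row x m), hrow]
    simp only [u₀]
    have := hz m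
    simp only [z₀] at this
    rw [show ∑ s, -z s * C (Nv s m) = -∑ s, z s * C (Nv s m) by rw [← Finset.sum_neg_distrib]; simp, ← this]
    ring
  have hmem := hB k ψ₁ (fun x => u₀ (eι x)) hu
  let π₀ : (Fin (Fintype.card ι₀) → MvPolynomial (Fin N) k) →ₗ[MvPolynomial (Fin N) k] MvPolynomial (Fin N) k :=
    LinearMap.proj (eι.symm none)
  have hres := Submodule.mem_map_of_mem (f := π₀) hmem
  rw [Submodule.map_span] at hres
  have hfmem : π₀ (fun x => u₀ (eι x)) = -f := by
    show u₀ (eι (eι.symm none)) = -f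
    rw [Equiv.apply_symm_apply]
  rw [hfmem] at hres
  refine (Ideal.neg_mem_iff _).1 (Submodule.span_mono ?_ hres)
  rintro _ ⟨v, ⟨hvdeg, hv⟩, rfl⟩
  refine ⟨hvdeg _, (hiff _).2 ?_⟩
  let v' : ι₀ → MvPolynomial (Fin N) k := fun x => v (eι.symm x)
  show φ (v' none) ∈ JL
  have hv' : ∀ m, v' none * C (ψ (ε m)) + ((∑ x : Fin r × Fin D, v' (some (Sum.inl x)) * map ψ (T x.1 x.2 m)) +
      ∑ s, v' (some (Sum.inr s)) * C (Nv s m)) = 0 := by
    intro m
    rw [← hrow, ← Equiv.sum_comp eι]
    simpa [v'] using hv m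
  have hsum : ∑ m, C (β m) * φ (v' none * C (ψ (ε m)) + ((∑ x : Fin r × Fin D, v' (some (Sum.inl x)) * map ψ (T x.1 x.2 m)) +
      ∑ s, v' (some (Sum.inr s)) * C (Nv s m))) = 0 := by
    simp only [hv', map_zero, mul_zero, Finset.sum_const_zero]
  simp only [map_add, map_sum, map_mul, mul_add, Finset.mul_sum, Finset.sum_add_distrib] at hsum
  have h3 : ∑ m, C (β m) * (φ (v' none) * φ (C (ψ (ε m)))) = φ (v' none) := by
    conv_rhs => rw [← mul_one (φ (v' none)), ← hone, Finset.mul_sum]
    exact Finset.sum_congr rfl fun m _ => by ring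
  rw [h3] at hsum
  have h4 : ∑ m, ∑ s, C (β m) * (φ (v' (some (Sum.inr s))) * φ (C (Nv s m))) = 0 := by
    rw [Finset.sum_comm]
    refine Finset.sum_eq_zero fun s _ => ?_
    have hs0 : ∑ m, C (β m) * φ (C (Nv s m)) = 0 := by
      rw [← map_zero (C (R := L) (σ := Fin N)), ← hNv s, map_sum]
      exact Finset.sum_congr rfl fun m _ => by simp only [φ, map_C, map_mul]; ring
    calc ∑ m, C (β m) * (φ (v' (some (Sum.inr s))) * φ (C (Nv s m)))
        = φ (v' (some (Sum.inr s))) * ∑ m, C (β m) * φ (C (Nv s m)) := by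
          rw [Finset.mul_sum]; exact Finset.sum_congr rfl fun m _ => by ring
      _ = 0 := by rw [hs0, mul_zero]
  rw [h4, add_zero] at hsum
  rw [eq_neg_of_add_eq_zero_left hsum]
  refine neg_mem ?_
  rw [Finset.sum_comm]
  refine Ideal.sum_mem _ fun x _ => ?_
  have : ∑ m, C (β m) * (φ (v' (some (Sum.inl x))) * φ (map ψ (T x.1 x.2 m))) =
      φ (v' (some (Sum.inl x))) * (C (β x.2) * H x.1) := by
    rw [← hTL, Finset.mul_sum]
    exact Finset.sum_congr rfl fun m _ => by ring
  rw [this]
  exact Ideal.mul_mem_left _ _ (Ideal.mul_mem_left _ _ (Ideal.subset_span ⟨x.1, rfl⟩))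

/-- Radicals of a family of ideals over a Noetherian ring are generated in bounded degree. -/
theorem exists_radB {A : Type u} [CommRing A] [IsNoetherianRing A] {M : ℕ}
    (g : Fin M → MvPolynomial (Fin N) A) :
    ∃ B, ∀ (k : Type u) [Field k] (ψ : A →+* k), RadB g B k ψ := by
  refine exists_bound_of_prime (fun B k _ ψ => RadB g B k ψ) (fun B B' hBB' k _ ψ hB f hf => ?_) fun I hI => ?_
  · exact Ideal.span_mono (by rintro q ⟨h1, h2⟩; exact ⟨h1.trans hBB', h2⟩) (hB f hf)
  obtain ⟨c, hc, B, hB⟩ := exists_radB_near (A := A ⧸ I) fun i => map (Ideal.Quotient.mk I) (g i)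
  obtain ⟨c, rfl⟩ := Ideal.Quotient.mk_surjective c
  refine ⟨c, fun h => hc (Ideal.Quotient.eq_zero_iff_mem.2 h), B, fun k _ ψ hle hψc => ?_⟩
  let ψ' := Ideal.Quotient.lift I ψ fun a ha => hle ha
  have hmap : (fun i => map ψ' (map (Ideal.Quotient.mk I) (g i))) = fun i => map ψ (g i) := by
    funext i
    rw [MvPolynomial.map_map]
    congr 1
  intro f hf
  have := hB k ψ' hψc f (by rwa [hmap])
  rwa [hmap] at this

end Groth.Agent.RadBound
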